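import Cfsg.Agent.Lib.Blocks.InducedDefect
import Mathlib.GroupTheory.Nilpotent

/-!
# Brauer's first main theorem
-/

set_option autoImplicit false
set_option linter.unusedSectionVars false
set_option linter.style.haveILetI false

open MonoidAlgebra Cfsg

namespace CfsgLib.Blocks

section Group

variable {G : Type*} [Group G] [Finite G] {p : ℕ} [Fact p.Prime] {P C : Subgroup G}

/-- `P` is maximal among the `p`-subgroups of `C`. -/
def IsMaxPIn (p : ℕ) (P C : Subgroup G) : Prop :=
  P ≤ C ∧ ∀ Q : Subgroup G, IsPGroup p Q → P ≤ Q → Q ≤ C → Q = P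

theorem exists_sylow_map_eq_iff (hP : IsPGroup p P) :
    (∃ S : Sylow p C, (S : Subgroup C).map C.subtype = P) ↔ IsMaxPIn p P C := by
  constructor
  · rintro ⟨S, rfl⟩
    refine ⟨sylow_map_le S, fun Q hQ hle hQC => ?_⟩
    obtain ⟨T, hT⟩ := exists_sylow_map_ge hQ hQC
    refine le_antisymm ?_ hle
    have h := Subgroup.eq_of_le_of_card_ge (hle.trans hT)
      (by rw [card_sylow_map, card_sylow_map])
    exact h ▸ hT
  · rintro ⟨hle, hmax⟩
    obtain ⟨S, hS⟩ := exists_sylow_map_ge hP hle
    exact ⟨S, hmax _ (isPGroup_sylow_map S) hS (sylow_map_le S)⟩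

/-- A `p`-subgroup maximal in the normalizer part of a centralizer is maximal in it. -/
theorem IsMaxPIn.of_normalizer {c : G}
    (h : IsMaxPIn p P (Subgroup.centralizer ({c} : Set G) ⊓ Subgroup.normalizer (P : Set G))) :
    IsMaxPIn p P (Subgroup.centralizer ({c} : Set G)) := by
  obtain ⟨hle, hmax⟩ := h
  refine ⟨hle.trans inf_le_left, fun Q hQ hPQ hQC => ?_⟩
  by_contra hne
  haveI := hQ.isNilpotent
  have hlt : P.subgroupOf Q < ⊤ := lt_top_iff_ne_top.mpr fun h =>
    hne (le_antisymm (Subgroup.subgroupOf_eq_top.mp h) hPQ)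
  obtain ⟨t, htn, htP⟩ := SetLike.exists_of_lt
    (Group.normalizerCondition_of_isNilpotent _ hlt)
  have hN : (t : G) ∈ Subgroup.normalizer (P : Set G) := by
    rw [Subgroup.mem_normalizer_iff]
    intro x
    constructor
    · intro hx
      have := (Subgroup.mem_normalizer_iff.mp htn ⟨x, hPQ hx⟩).mp hx
      exact this
    · intro hx
      have hxQ : x ∈ Q := by
        have := mul_mem (mul_mem (inv_mem t.2) (hPQ hx)) t.2
        simpa [mul_assoc] using this
      exact (Subgroup.mem_normalizer_iff.mp htn ⟨x, hxQ⟩).mpr hx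
  have h1 : Q ⊓ Subgroup.normalizer (P : Set G) = P :=
    hmax _ (hQ.to_le inf_le_left) (le_inf hPQ Subgroup.le_normalizer)
      (inf_le_inf_right _ hQC)
  exact htP ((SetLike.ext_iff.mp h1 (t : G)).mp ⟨t.2, hN⟩)

/-- Two members of a class centralizing `P`, a Sylow subgroup of their centralizers, are
conjugate in the normalizer. -/
theorem exists_normalizer_conj_eq {g c₁ c₂ : G} (hP : IsPGroup p P)
    (hg : IsMaxPIn p P (Subgroup.centralizer ({g} : Set G))) (h₁ : IsConj g c₁)
    (h₂ : IsConj g c₂) (hc₁ : c₁ ∈ Subgroup.centralizer (P : Set G))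
    (hc₂ : c₂ ∈ Subgroup.centralizer (P : Set G)) :
    ∃ n ∈ Subgroup.normalizer (P : Set G), n * c₁ * n⁻¹ = c₂ := by
  obtain ⟨S, hS⟩ := (exists_sylow_map_eq_iff hP).mpr hg
  have key : ∀ c : G, IsConj g c → ∀ Q : Subgroup G, IsPGroup p Q →
      Q ≤ Subgroup.centralizer ({c} : Set G) → Nat.card Q ≤ Nat.card P := by
    intro c hc Q hQ hQc
    obtain ⟨a, ha⟩ := isConj_iff.mp hc
    obtain ⟨T, hT⟩ := exists_sylow_map_ge (hQ.map _) (map_conj_le_centralizer ha hQc)
    rw [← hS, card_sylow_map S, ← card_sylow_map T, ← card_map_conj Q a⁻¹]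
    exact Subgroup.card_le_of_le hT
  obtain ⟨a, ha⟩ := isConj_iff.mp (h₁.symm.trans h₂)
  have hle₁ : P ≤ Subgroup.centralizer ({c₁} : Set G) := fun u hu =>
    Subgroup.mem_centralizer_singleton_iff.mpr (Subgroup.mem_centralizer_iff.mp hc₁ u hu)
  have hle₂ : P ≤ Subgroup.centralizer ({c₂} : Set G) := fun u hu =>
    Subgroup.mem_centralizer_singleton_iff.mpr (Subgroup.mem_centralizer_iff.mp hc₂ u hu)
  have hQle : P.map (MulAut.conj a).toMonoidHom ≤ Subgroup.centralizer ({c₂} : Set G) := by
    have := map_conj_le_centralizer (g := c₂) (x := c₁) (c := a⁻¹) (by rw [← ha]; group) hle₁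
    rwa [inv_inv] at this
  obtain ⟨T₂, hT₂⟩ := exists_sylow_map_ge hP hle₂
  obtain ⟨T, hT⟩ := exists_sylow_map_ge (hP.map _) hQle
  have e₂ := Subgroup.eq_of_le_of_card_ge hT₂
    (key c₂ h₂ _ (isPGroup_sylow_map T₂) (sylow_map_le T₂))
  have eT := Subgroup.eq_of_le_of_card_ge hT (by
    rw [card_map_conj]
    exact key c₂ h₂ _ (isPGroup_sylow_map T) (sylow_map_le T))
  obtain ⟨d, hd, hdeq⟩ := exists_conj_sylow_map T T₂
  rw [← eT, ← e₂, map_conj_map_conj] at hdeq
  refine ⟨d * a, Subgroup.mem_normalizer_iff.mpr fun x => ?_, ?_⟩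
  · constructor
    · intro hx
      exact (SetLike.ext_iff.mp hdeq _).mp ⟨x, hx, rfl⟩
    · intro hx
      obtain ⟨u, hu, he⟩ := (SetLike.ext_iff.mp hdeq _).mpr hx
      simp only [MulEquiv.coe_toMonoidHom, MulAut.conj_apply] at he
      exact mul_left_cancel (mul_right_cancel he) ▸ hu
  · rw [show d * a * c₁ * (d * a)⁻¹ = d * (a * c₁ * a⁻¹) * d⁻¹ by group, ha,
      Subgroup.mem_centralizer_singleton_iff.mp hd, mul_inv_cancel_right]

end Group

section Brauer

variable {G : Type*} [Group G] [Finite G] {p : ℕ} [Fact p.Prime] {M : Ideal AlgInt} [M.IsPrime]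
  {D : Subgroup G}

/-- At a class with Sylow subgroup `D` the Brauer map picks one class of the normalizer. -/
theorem brauerCentralChar_eq_centralChar (hD : IsPGroup p D)
    (ξ : IrrCharacter (Subgroup.normalizer (D : Set G)))
    {y : Subgroup.normalizer (D : Set G)} (hy : (y : G) ∈ Subgroup.centralizer (D : Set G))
    (hmax : IsMaxPIn p D (Subgroup.centralizer ({(y : G)} : Set G))) :
    brauerCentralChar D (Subgroup.normalizer (D : Set G))
      (ξ : Subgroup.normalizer (D : Set G) → ℂ) (y : G) =
      centralChar (ξ : Subgroup.normalizer (D : Set G) → ℂ) y := by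
  classical
  haveI := Fintype.ofFinite (Subgroup.normalizer (D : Set G))
  rw [brauerCentralChar, finsum_mem_div_eq_omega,
    ← omega_classSum (CharTheory.IsIrrCharacter.isClassFunction ξ.2)]
  congr 1
  refine MonoidAlgebra.ext (Finsupp.ext fun x => ?_)
  rw [coeff_ofFun]
  by_cases hx : IsConj y x
  · rw [coeff_classSum_of_isConj hx, if_pos]
    refine ⟨(Subgroup.subtype _).map_isConj hx, ?_⟩
    obtain ⟨c, hc⟩ := isConj_iff.mp hx
    rw [← hc]
    exact (conj_mem_centralizer_iff_of_mem_normalizer c.2 _).mpr hy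
  · rw [coeff_classSum_of_not_isConj hx, if_neg]
    intro h
    obtain ⟨n, hn, he⟩ := exists_normalizer_conj_eq hD hmax (IsConj.refl _) h.1 hy h.2
    exact hx (isConj_iff.mpr ⟨⟨n, hn⟩, Subtype.ext he⟩)

theorem map_subgroupOf_normalizer (D : Subgroup G) :
    (D.subgroupOf (Subgroup.normalizer (D : Set G))).map
      (Subgroup.normalizer (D : Set G)).subtype = D :=
  Subgroup.map_subgroupOf_eq_of_le Subgroup.le_normalizer

/-- In the normalizer, a defect class of a block with defect group `D` has Sylow subgroup `D`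
in the whole centralizer. -/
theorem exists_defectClass_isMaxPIn (_hM : IsPModular p M)
    {b : Set (IrrCharacter (Subgroup.normalizer (D : Set G)))} (hb : IsPBlock M b)
    (hbD : IsDefectGroup p M b (D.subgroupOf (Subgroup.normalizer (D : Set G)))) :
    ∃ y : Subgroup.normalizer (D : Set G), IsDefectClass M b y ∧
      (y : G) ∈ Subgroup.centralizer (D : Set G) ∧
      IsMaxPIn p D (Subgroup.centralizer ({(y : G)} : Set G)) := by
  obtain ⟨y, hy, S, hS⟩ := id hbD
  have hle : ∀ u ∈ D, u * (y : G) = y * u := fun u hu => by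
    have h : (⟨u, Subgroup.le_normalizer hu⟩ : Subgroup.normalizer (D : Set G)) ∈
        (S : Subgroup (Subgroup.centralizer ({y} : Set (Subgroup.normalizer (D : Set G))))).map
          (Subgroup.centralizer ({y} : Set (Subgroup.normalizer (D : Set G)))).subtype := by
      rw [← hS]
      exact hu
    exact congrArg Subtype.val (Subgroup.mem_centralizer_singleton_iff.mp (sylow_map_le S h))
  refine ⟨y, hy, Subgroup.mem_centralizer_iff.mpr hle, IsMaxPIn.of_normalizer ⟨le_inf
    (fun u hu => Subgroup.mem_centralizer_singleton_iff.mpr (hle u hu)) Subgroup.le_normalizer,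
    fun Q hQ hDQ hQC => ?_⟩⟩
  have hmax := (exists_sylow_map_eq_iff (isPGroup_of_isDefectGroup hbD)).mp ⟨S, hS.symm⟩
  have hQN : Q ≤ Subgroup.normalizer (D : Set G) := hQC.trans inf_le_right
  have h1 := hmax.2 (Q.subgroupOf (Subgroup.normalizer (D : Set G)))
    (hQ.comap_of_injective _ Subtype.val_injective) (Subgroup.comap_mono hDQ) fun u hu => by
      rw [Subgroup.mem_centralizer_singleton_iff]
      exact Subtype.ext (Subgroup.mem_centralizer_singleton_iff.mp (hQC hu).1)
  rw [← Subgroup.map_subgroupOf_eq_of_le hQN, h1, map_subgroupOf_normalizer]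

/-- Induction from the normalizer of the defect group keeps the defect group. -/
theorem exists_isInducedBlock_normalizer (hM : IsPModular p M)
    {b : Set (IrrCharacter (Subgroup.normalizer (D : Set G)))} (hb : IsPBlock M b)
    (hbD : IsDefectGroup p M b (D.subgroupOf (Subgroup.normalizer (D : Set G)))) :
    ∃ B : Set (IrrCharacter G), IsPBlock M B ∧ IsDefectGroup p M B D ∧
      IsInducedBlock M (Subgroup.normalizer (D : Set G)) b B := by
  have hDp : IsPGroup p D := by
    rw [← map_subgroupOf_normalizer D]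
    exact (isPGroup_of_isDefectGroup hbD).map _
  obtain ⟨B, hind⟩ := inducedBlockDefined_of_le_normalizer hM hDp Subgroup.le_normalizer
    (centralizer_le_normalizer_coe D) le_rfl hb
  obtain ⟨-, hB, -⟩ := id hind
  refine ⟨B, hB, ?_, hind⟩
  obtain ⟨y, hy, hyC, hmax⟩ := exists_defectClass_isMaxPIn hM hb hbD
  obtain ⟨ξ, hξ⟩ := isPBlock_nonempty hb
  obtain ⟨χ, hχ⟩ := isPBlock_nonempty hB
  have hyB : ¬ MemLocalIdeal M (centralChar (χ : G → ℂ) (y : G)) := by
    have h := (isInducedBlock_iff_brauer hM hDp Subgroup.le_normalizer le_rfl hb hB).mp hind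
      ξ hξ χ hχ (y : G)
    rw [brauerCentralChar_eq_centralChar hDp ξ hyC hmax] at h
    intro hI
    exact hy.2.2 ξ hξ (by simpa using memLocalIdeal_add h hI)
  obtain ⟨E, hE, hDE⟩ := exists_defectGroup_ge_of_isInducedBlock hM hind hbD
  rw [map_subgroupOf_normalizer] at hDE
  obtain ⟨S, hS⟩ := (exists_sylow_map_eq_iff hDp).mpr hmax
  obtain ⟨h0, hh0, S0, hS0⟩ := id hE
  obtain ⟨a, ha⟩ := exists_conj_le_sylow hM hB hh0.2.1 hχ hyB (isPGroup_of_isDefectGroup hE)
    (hS0 ▸ sylow_map_le S0) S
  rw [hS] at ha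
  rw [Subgroup.eq_of_le_of_card_ge hDE
    ((card_map_conj E a).symm.le.trans (Subgroup.card_le_of_le ha))]
  exact hE

/-- Every block with defect group `D` comes from the normalizer. -/
theorem exists_block_normalizer (hM : IsPModular p M) {B : Set (IrrCharacter G)}
    (hB : IsPBlock M B) (hD : IsDefectGroup p M B D) :
    ∃ b : Set (IrrCharacter (Subgroup.normalizer (D : Set G))), IsPBlock M b ∧
      IsDefectGroup p M b (D.subgroupOf (Subgroup.normalizer (D : Set G))) ∧
      IsInducedBlock M (Subgroup.normalizer (D : Set G)) b B := by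
  haveI := charP_res hM
  have hDp := isPGroup_of_isDefectGroup hD
  obtain ⟨y, hy, S, hS⟩ := id hD
  have hyD : y ∈ Subgroup.centralizer (D : Set G) := Subgroup.mem_centralizer_iff.mpr fun u hu =>
    Subgroup.mem_centralizer_singleton_iff.mp (sylow_map_le S (hS ▸ hu))
  obtain ⟨η, -, hη⟩ := exists_irr_omegaRes_comp_truncHom hB hDp (centralizer_le_normalizer_coe D)
    le_rfl (truncHom_idemRes_ne_zero hB hDp (centralizer_le_normalizer_coe D) le_rfl hy.2.1 hyD)
  set b := blockOf M (η : Subgroup.normalizer (D : Set G) → ℂ) with hbdef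
  have hb : IsPBlock M b := isPBlock_blockOf η
  have hind : IsInducedBlock M (Subgroup.normalizer (D : Set G)) b B := by
    refine (isInducedBlock_iff_brauer hM hDp Subgroup.le_normalizer le_rfl hb hB).mpr
      fun ξ hξ χ hχ g => ?_
    obtain ⟨h1, e1⟩ := red_brauerCentralChar hM hDp (centralizer_le_normalizer_coe D) le_rfl ξ g
    have e2 := RingHom.congr_fun (hη χ hχ) (classSumA (Res M) g)
    rw [RingHom.comp_apply,
      (omegaRes_eq_iff M η ξ).mpr (sameBlock_of_mem hb (mem_blockOf_self η) hξ), e1,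
      omegaRes_classSumA] at e2
    exact (red_eq_red_iff _ _).mp e2
  obtain ⟨Db, hDb⟩ := exists_isDefectGroup hM hb
  obtain ⟨E, hE, hle⟩ := exists_defectGroup_ge_of_isInducedBlock hM hind hDb
  haveI : (D.subgroupOf (Subgroup.normalizer (D : Set G))).Normal :=
    Subgroup.normal_in_normalizer
  have hDDb : D.subgroupOf (Subgroup.normalizer (D : Set G)) ≤ Db :=
    (CfsgLib.Cores.le_pCore (N := D.subgroupOf (Subgroup.normalizer (D : Set G)))
      (hDp.comap_of_injective _ Subtype.val_injective)).trans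
      (pCore_le_isDefectGroup hM hb hDb)
  have hDE : D ≤ E := by
    rw [← map_subgroupOf_normalizer D]
    exact (Subgroup.map_mono hDDb).trans hle
  have heq : E = D := (Subgroup.eq_of_le_of_card_ge hDE
    (by rw [card_isDefectGroup hM hB hE, card_isDefectGroup hM hB hD])).symm
  rw [heq] at hle
  refine ⟨b, hb, ?_, hind⟩
  rw [le_antisymm hDDb fun u hu => show (u : G) ∈ D from hle ⟨u, hu, rfl⟩]
  exact hDb

/-- The block of the normalizer with defect group `D` is determined by the induced block. -/
theorem block_normalizer_unique (hM : IsPModular p M) {B : Set (IrrCharacter G)}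
    {b b' : Set (IrrCharacter (Subgroup.normalizer (D : Set G)))}
    (hbD : IsDefectGroup p M b (D.subgroupOf (Subgroup.normalizer (D : Set G))))
    (hind : IsInducedBlock M (Subgroup.normalizer (D : Set G)) b B)
    (hind' : IsInducedBlock M (Subgroup.normalizer (D : Set G)) b' B) : b' = b := by
  classical
  haveI := Fintype.ofFinite (ConjClasses (Subgroup.normalizer (D : Set G)))
  have hDp : IsPGroup p D := by
    rw [← map_subgroupOf_normalizer D]
    exact (isPGroup_of_isDefectGroup hbD).map _
  obtain ⟨hb, hB, -⟩ := id hind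
  obtain ⟨hb', -, -⟩ := id hind'
  obtain ⟨ξ, hξ⟩ := isPBlock_nonempty hb
  obtain ⟨ξ', hξ'⟩ := isPBlock_nonempty hb'
  obtain ⟨χ, hχ⟩ := isPBlock_nonempty hB
  obtain ⟨y₀, hy₀, hy₀C, hmax₀⟩ := exists_defectClass_isMaxPIn hM hb hbD
  have key : ∀ c : Subgroup.normalizer (D : Set G), MemLocalIdeal M (blockCoeff b c *
      centralChar (ξ : Subgroup.normalizer (D : Set G) → ℂ) c - blockCoeff b c *
      centralChar (ξ' : Subgroup.normalizer (D : Set G) → ℂ) c) := by
    intro c
    rw [← mul_sub]
    have hR := memLocalRing_blockCoeff hb c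
    by_cases hcc : MemLocalIdeal M (blockCoeff b c)
    · exact memLocalIdeal_mul_right hcc (sub_mem (H := locRing M) (memLocalRing_centralChar ξ c)
        (memLocalRing_centralChar ξ' c))
    refine memLocalIdeal_mul_left hR ?_
    haveI : (D.subgroupOf (Subgroup.normalizer (D : Set G))).Normal :=
      Subgroup.normal_in_normalizer
    have hnot : ∀ η : IrrCharacter (Subgroup.normalizer (D : Set G)),
        (c : G) ∉ Subgroup.centralizer (D : Set G) →
        MemLocalIdeal M (centralChar (η : Subgroup.normalizer (D : Set G) → ℂ) c) := by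
      intro η hc
      by_contra hu
      apply hc
      rw [Subgroup.mem_centralizer_iff]
      intro u hu'
      exact congrArg Subtype.val (Subgroup.mem_centralizer_iff.mp (mem_centralizer_pCore hM hu)
        ⟨u, Subgroup.le_normalizer hu'⟩
        (CfsgLib.Cores.le_pCore (N := D.subgroupOf (Subgroup.normalizer (D : Set G)))
      (hDp.comap_of_injective _ Subtype.val_injective)
          (show (⟨u, Subgroup.le_normalizer hu'⟩ : Subgroup.normalizer (D : Set G)) ∈
            D.subgroupOf (Subgroup.normalizer (D : Set G)) from hu')))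
    by_cases hcC : (c : G) ∈ Subgroup.centralizer (D : Set G)
    · have hmax : IsMaxPIn p D (Subgroup.centralizer ({(c : G)} : Set G)) := by
        refine IsMaxPIn.of_normalizer ⟨le_inf (fun u hu =>
          Subgroup.mem_centralizer_singleton_iff.mpr (Subgroup.mem_centralizer_iff.mp hcC u hu))
          Subgroup.le_normalizer, fun Q hQ hDQ hQC => ?_⟩
        have hQN : Q ≤ Subgroup.normalizer (D : Set G) := hQC.trans inf_le_right
        obtain ⟨a, S, hS⟩ := exists_conj_le_of_support hM hb hcc hξ (hy₀.2.2 ξ hξ)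
          (hQ.comap_of_injective _ Subtype.val_injective :
            IsPGroup p (Q.subgroupOf (Subgroup.normalizer (D : Set G))))
          (fun u hu => Subgroup.mem_centralizer_singleton_iff.mpr
            (Subtype.ext (Subgroup.mem_centralizer_singleton_iff.mp (hQC hu).1)))
        have h1 : Nat.card (Q.subgroupOf (Subgroup.normalizer (D : Set G))) ≤
            Nat.card (D.subgroupOf (Subgroup.normalizer (D : Set G))) := by
          rw [← card_map_conj _ a, card_isDefectGroup hM hb hbD,
            ← card_isDefectGroup hM hb (isDefectGroup_sylow_map hy₀ S)]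
          exact Subgroup.card_le_of_le hS
        have h2 := Subgroup.eq_of_le_of_card_ge (Subgroup.comap_mono hDQ) h1
        rw [← Subgroup.map_subgroupOf_eq_of_le hQN, Subgroup.subgroupOf, ← h2]
        exact map_subgroupOf_normalizer D
      have e1 := (isInducedBlock_iff_brauer hM hDp Subgroup.le_normalizer le_rfl hb hB).mp hind
        ξ hξ χ hχ (c : G)
      have e2 := (isInducedBlock_iff_brauer hM hDp Subgroup.le_normalizer le_rfl hb' hB).mp hind'
        ξ' hξ' χ hχ (c : G)
      rw [brauerCentralChar_eq_centralChar hDp _ hcC hmax] at e1 e2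
      simpa using memLocalIdeal_sub e1 e2
    · exact memLocalIdeal_sub (hnot ξ hcC) (hnot ξ' hcC)
  by_contra hne
  apply not_memLocalIdeal_one (M := M)
  have h1 := omega_blockIdem_of_mem hξ
  have h0 := omega_blockIdem_of_notMem (χ := ξ') (B := b) fun h =>
    hne (isPBlock_eq_of_mem hb' hb hξ' h)
  rw [omega_eq_sum_classes (CharTheory.IsIrrCharacter.isClassFunction ξ.2)
    (isClassElem_blockIdem b)] at h1
  rw [omega_eq_sum_classes (CharTheory.IsIrrCharacter.isClassFunction ξ'.2)
    (isClassElem_blockIdem b)] at h0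
  rw [← sub_zero (1 : ℂ), ← h1, ← h0, ← Finset.sum_sub_distrib]
  exact memLocalIdeal_sum fun c _ => by simpa only [coeff_blockIdem] using key c.out

end Brauer

end CfsgLib.Blocks
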