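import Cfsg.Agent.Lib.BlockSections.AbelianCount
import Cfsg.Agent.Lib.BrauerPairs.ThirdMain
import Cfsg.Agent.Lib.NormalPComplement.Basic
import Cfsg.Agent.Lib.Blocks.Defect

/-!
# Blocks with `k(B) - l(B) ≤ 1`

All non-identity elements of the defect group are conjugate, and each subsection at such an element
has rank one. In the principal block their centralizers then have normal `p`-complements, and an
element inverting a central `p`-element acts without fixed points on a Sylow subgroup, which is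
therefore abelian.
-/

set_option autoImplicit false
set_option linter.style.haveILetI false
set_option linter.unusedSectionVars false

namespace CfsgLib.Blocks.OneSubsection

open Cfsg

section GroupTheory

variable {G : Type*} [Group G] [Finite G] {p : ℕ} [hp : Fact p.Prime]

/-- In a subgroup with a normal `p`-complement, a `p'`-element normalising a `p`-subgroup
centralises it. -/
theorem conj_eq_of_normalPComplement {C : Subgroup G} (hC : HasNormalPComplement p C)
    {R : Subgroup G} (hRC : R ≤ C) (hR : IsPGroup p R) {h : G} (hh : h ∈ C)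
    (hcop : (orderOf h).Coprime p) (hnorm : ∀ x ∈ R, h * x * h⁻¹ ∈ R) :
    ∀ x ∈ R, h * x * h⁻¹ = x := by
  intro x hx
  set h' : C := ⟨h, hh⟩ with hh'
  set x' : C := ⟨x, hRC hx⟩ with hx'
  have hK : h' ∈ pPrimeCore p C :=
    NormalPComplement.mem_pPrimeCore_of_coprime hC (by rwa [hh', Subgroup.orderOf_mk])
  have hcK : h' * x' * h'⁻¹ * x'⁻¹ ∈ pPrimeCore p C := by
    rw [show h' * x' * h'⁻¹ * x'⁻¹ = h' * (x' * h'⁻¹ * x'⁻¹) by group]
    exact mul_mem hK ((inferInstance : (pPrimeCore p C).Normal).conj_mem _ (inv_mem hK) x')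
  set c := h' * x' * h'⁻¹ * x'⁻¹ with hc
  have hcR : (c : G) ∈ R := R.mul_mem (hnorm x hx) (R.inv_mem hx)
  obtain ⟨k, hk⟩ := IsPGroup.iff_orderOf.1 hR ⟨(c : G), hcR⟩
  rw [Subgroup.orderOf_mk, Subgroup.orderOf_coe] at hk
  have h1 : orderOf c ∣ Nat.card (pPrimeCore p C) := by
    rw [← Subgroup.orderOf_mk c hcK]
    exact orderOf_dvd_natCard _
  have hk0 : k = 0 := by
    by_contra hk0
    exact Cores.not_dvd_card_pPrimeCore (G := C) (p := p)
      ((dvd_pow_self p hk0).trans (hk ▸ h1))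
  rw [hk0, pow_zero, orderOf_eq_one_iff] at hk
  have h2 : ((c : C) : G) = 1 := by rw [hk]; rfl
  simp only [hc, hh', hx', Subgroup.coe_mul, Subgroup.coe_inv] at h2
  exact mul_inv_eq_one.1 h2

/-- A Sylow subgroup is abelian if the centralizers of its non-identity elements have normal
`p`-complements and every such element is conjugate to its inverse (`p` odd). -/
theorem isMulCommutative_of_centralizers (hodd : p ≠ 2) (S : Sylow p G)
    (hC : ∀ x ∈ (S : Subgroup G), x ≠ 1 →
      HasNormalPComplement p ↥(Subgroup.centralizer ({x} : Set G)))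
    (hconj : ∀ z ∈ (S : Subgroup G), z ≠ 1 → IsConj z z⁻¹) :
    IsMulCommutative (S : Subgroup G) := by
  classical
  rcases subsingleton_or_nontrivial (S : Subgroup G) with hsub | hnt
  · exact ⟨⟨fun a b => Subsingleton.elim _ _⟩⟩
  haveI := S.2.center_nontrivial
  obtain ⟨⟨⟨z, hzS⟩, hzc⟩, hz1⟩ := exists_ne (1 : Subgroup.center (S : Subgroup G))
  have hz : z ≠ 1 := fun h => hz1 (Subtype.ext (Subtype.ext h))
  have hzC : z ∈ Subgroup.centralizer ((S : Subgroup G) : Set G) :=
    Subgroup.mem_centralizer_iff.2 fun y hy =>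
      congrArg Subtype.val (Subgroup.mem_center_iff.1 hzc ⟨y, hy⟩)
  obtain ⟨c, hc⟩ := isConj_iff.1 (hconj z hzS hz)
  have hzC' : c⁻¹⁻¹ * z * c⁻¹ ∈ Subgroup.centralizer ((S : Subgroup G) : Set G) := by
    rw [inv_inv, hc]; exact inv_mem hzC
  obtain ⟨n, hnN, hn⟩ := S.conj_eq_normalizer_conj_of_mem_centralizer z c⁻¹ hzC hzC'
  rw [inv_inv, hc] at hn
  set e := (orderOf n).factorization 2 with he
  set m := orderOf n / 2 ^ e with hm
  have hem : 2 ^ e * m = orderOf n := Nat.ordProj_mul_ordCompl_eq_self _ 2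
  have hmodd : ¬ 2 ∣ m := Nat.not_dvd_ordCompl Nat.prime_two (orderOf_pos n).ne'
  -- `n⁻¹` inverts `z`
  set g := n⁻¹ with hg
  have hginv : g * z * g⁻¹ = z⁻¹ := by rw [hg, inv_inv]; exact hn.symm
  set h := g ^ m with hh
  have hpowz : ∀ k : ℕ, g ^ k * z * (g ^ k)⁻¹ = if Even k then z else z⁻¹ := by
    intro k
    induction k with
    | zero => simp
    | succ k ih =>
      rw [pow_succ', show g * g ^ k * z * (g * g ^ k)⁻¹ = g * (g ^ k * z * (g ^ k)⁻¹) * g⁻¹ by group,
        ih]
      by_cases hk : Even k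
      · rw [if_pos hk, if_neg (by simpa [Nat.even_add_one] using hk), hginv]
      · rw [if_neg hk, if_pos (by simpa [Nat.even_add_one] using hk), ← conj_inv, hginv, inv_inv]
  have hhz : h * z * h⁻¹ = z⁻¹ := by
    rw [hh, hpowz m, if_neg (by rwa [even_iff_two_dvd])]
  have hh2z : h * h * z * (h * h)⁻¹ = z := by
    rw [show h * h * z * (h * h)⁻¹ = h * (h * z * h⁻¹) * h⁻¹ by group, hhz, ← conj_inv, hhz, inv_inv]
  have hord : orderOf h ∣ 2 ^ e := by
    refine orderOf_dvd_of_pow_eq_one ?_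
    rw [hh, ← pow_mul, mul_comm, hem, hg, inv_pow, pow_orderOf_eq_one, inv_one]
  have hcop : Nat.Coprime (orderOf h) p :=
    ((Nat.coprime_primes Nat.prime_two hp.out).2 hodd.symm).pow_left e |>.coprime_dvd_left hord
  have hcop2 : Nat.Coprime (orderOf (h * h)) p :=
    hcop.coprime_dvd_left (by rw [← sq]; exact orderOf_pow_dvd 2)
  have hhN : ∀ x ∈ (S : Subgroup G), h * x * h⁻¹ ∈ (S : Subgroup G) := by
    have hhn : h ∈ Subgroup.normalizer ((S : Subgroup G) : Set G) :=
      pow_mem (inv_mem hnN) m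
    exact fun x hx => (Subgroup.mem_normalizer_iff.1 hhn x).1 hx
  -- the square centralises `S`
  have hsq : ∀ x ∈ (S : Subgroup G), h * h * x * (h * h)⁻¹ = x := by
    refine conj_eq_of_normalPComplement (hC z hzS hz) (fun x hx => ?_) S.2 ?_ hcop2 fun x hx => ?_
    · exact Subgroup.mem_centralizer_singleton_iff.2 (Subgroup.mem_centralizer_iff.1 hzC x hx)
    · exact Subgroup.mem_centralizer_singleton_iff.2 (mul_inv_eq_iff_eq_mul.1 hh2z)
    · rw [show h * h * x * (h * h)⁻¹ = h * (h * x * h⁻¹) * h⁻¹ by group]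
      exact hhN _ (hhN x hx)
  -- no fixed points
  let φ : ↥(S : Subgroup G) → ↥(S : Subgroup G) := fun x => ⟨h * (x : G) * h⁻¹, hhN _ x.2⟩
  have hinvol : Function.Involutive φ := fun x => Subtype.ext (by
    show h * (h * x * h⁻¹) * h⁻¹ = (x : G)
    rw [show h * (h * (x : G) * h⁻¹) * h⁻¹ = h * h * x * (h * h)⁻¹ by group]
    exact hsq x x.2)
  have hfpf : MonoidHom.FixedPointFree φ := by
    intro x hx
    by_contra hx1
    have hx' : h * (x : G) * h⁻¹ = x := congrArg Subtype.val hx
    have hxG : (x : G) ≠ 1 := fun e => hx1 (Subtype.ext e)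
    have hzx : z ∈ Subgroup.centralizer ({(x : G)} : Set G) :=
      Subgroup.mem_centralizer_singleton_iff.2 (Subgroup.mem_centralizer_iff.1 hzC x x.2).symm
    have hh' : h ∈ Subgroup.centralizer ({(x : G)} : Set G) :=
      Subgroup.mem_centralizer_singleton_iff.2 (mul_inv_eq_iff_eq_mul.1 hx')
    have hzz := conj_eq_of_normalPComplement (hC x x.2 hxG) (Subgroup.zpowers_le.2 hzx)
      (S.2.to_le (Subgroup.zpowers_le.2 hzS)) hh' hcop (fun y hy => ?_) z
      (Subgroup.mem_zpowers z)
    · rw [hhz] at hzz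
      have h2 : z ^ 2 = 1 := by rw [sq]; exact inv_eq_iff_mul_eq_one.1 hzz
      obtain ⟨k, hk⟩ := IsPGroup.iff_orderOf.1 S.2 ⟨z, hzS⟩
      rw [Subgroup.orderOf_mk] at hk
      have h3 : orderOf z = 1 := Nat.eq_one_of_dvd_coprimes
        ((((Nat.coprime_primes hp.out Nat.prime_two).2 hodd).pow_left k))
        (hk ▸ dvd_rfl) (orderOf_dvd_of_pow_eq_one h2)
      exact hz (orderOf_eq_one_iff.1 h3)
    · obtain ⟨i, rfl⟩ := Subgroup.mem_zpowers_iff.1 hy
      rw [← conj_zpow, hhz]
      exact zpow_mem (inv_mem (Subgroup.mem_zpowers z)) i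
  let φh : ↥(S : Subgroup G) →* ↥(S : Subgroup G) :=
    MonoidHom.mk' φ fun a b => Subtype.ext (by
      show h * ((a : G) * b) * h⁻¹ = h * a * h⁻¹ * (h * b * h⁻¹)
      group)
  exact ⟨⟨fun a b => MonoidHom.FixedPointFree.commute_all_of_involutive
    (φ := φh) hfpf hinvol a b⟩⟩

end GroupTheory

section Sections

open CfsgLib.BlockSections CfsgLib.BrauerPairs CfsgLib.BrauerCharacters

variable {G : Type*} [Group G] [Finite G] {p : ℕ} [hp : Fact p.Prime] {M : Ideal AlgInt}
  [M.IsPrime] {B : Set (IrrCharacter G)}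

/-- Some block of the centralizer induces `B`. -/
def Sect (M : Ideal AlgInt) (B : Set (IrrCharacter G)) (x : G) : Prop :=
  ∃ b, IsInducedBlock M (Subgroup.centralizer ({x} : Set G)) b B

theorem exists_order_of_mem {D : Subgroup G} (hD : IsPGroup p D) {x : G} (hx : x ∈ D) :
    ∃ k : ℕ, orderOf x = p ^ k := by
  obtain ⟨k, hk⟩ := IsPGroup.iff_orderOf.1 hD ⟨x, hx⟩
  exact ⟨k, by rw [← hk, Subgroup.orderOf_mk]⟩

theorem sect_of_mem_defect (hM : IsPModular p M) (hB : IsPBlock M B) {D : Subgroup G}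
    (hD : IsDefectGroup p M B D) {x : G} (hx : x ∈ D) : Sect M B x := by
  classical
  haveI := Fintype.ofFinite G
  haveI : M.IsMaximal := hM.2.1
  haveI : CharP (Blocks.Res M) p := Blocks.charP_res hM
  haveI : IsAlgClosed (Blocks.Res M) := Blocks.isAlgClosed_res
  obtain ⟨e, hmax⟩ := exists_isMaxPair_of_isDefectIn (isBlockIdem_redElem_blockCoeff (M := M) hB)
    ((isDefectGroup_iff hM hB).1 hD)
  exact ⟨_, (belowBlock_spec hM hB hmax hx).2.2⟩

theorem subIdem_principal_eq {Q H : Subgroup G} (h : H = Subgroup.centralizer (Q : Set G)) :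
    subIdem M H (principalBlock M H) = b0 M Q := by
  subst h
  rfl

/-- The principal block of the centralizer induces the principal block. -/
theorem isInducedBlock_principal (hM : IsPModular p M) {x : G}
    (hx : ∃ k : ℕ, orderOf x = p ^ k) :
    IsInducedBlock M (Subgroup.centralizer ({x} : Set G))
      (principalBlock M ↥(Subgroup.centralizer ({x} : Set G))) (principalBlock M G) := by
  have hQ : IsPGroup p (Subgroup.zpowers x) := by
    obtain ⟨k, hk⟩ := hx
    exact IsPGroup.of_card (n := k) (by rw [Nat.card_zpowers, hk])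
  refine (isInducedBlock_singleton_iff hM (isPBlock_principalBlock M) hx
    (isPBlock_principalBlock M)).2 ?_
  rw [subIdem_principal_eq (centralizer_zpowers_eq x).symm]
  exact pairOf_principal hM hQ

variable (hM : IsPModular p M) (hB : IsPBlock M B) (hk : Nat.card B ≤ blockRank p B + 1)

include hM hB hk

/-- The contributions of a set of non-identity classes. -/
theorem sum_rank_le (R : G → G) (hR : ∀ g, IsConj g (R g))
    (hRR : ∀ g g', IsConj g g' → R g = R g') (T : Finset G)
    (hT : ∀ x ∈ T, R x = x ∧ x ≠ 1 ∧ ∃ k : ℕ, orderOf x = p ^ k) :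
    ∑ x ∈ T, ∑ᶠ b ∈ {b : Set (IrrCharacter ↥(Subgroup.centralizer ({x} : Set G))) |
      IsInducedBlock M (Subgroup.centralizer ({x} : Set G)) b B}, blockRank p b ≤ 1 := by
  classical
  haveI := Fintype.ofFinite G
  have hR1 : R 1 = 1 := isConj_one_right.1 (hR 1)
  set X : Finset G := (Finset.univ.filter fun g : G => ∃ k : ℕ, orderOf g = p ^ k).image R with hX
  have hXp : ∀ x ∈ X, ∃ k : ℕ, orderOf x = p ^ k := by
    intro x hx
    obtain ⟨g, hg, rfl⟩ := Finset.mem_image.1 hx
    obtain ⟨c, hc⟩ := isConj_iff.1 (hR g)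
    rw [← hc, show c * g * c⁻¹ = MulAut.conj c g from rfl, (MulAut.conj c).orderOf_eq]
    exact (Finset.mem_filter.1 hg).2
  have hXrep : ∀ g : G, (∃ k : ℕ, orderOf g = p ^ k) → ∃! x, x ∈ X ∧ IsConj g x := by
    intro g hg
    refine ⟨R g, ⟨Finset.mem_image.2 ⟨g, Finset.mem_filter.2 ⟨Finset.mem_univ _, hg⟩, rfl⟩, hR g⟩, ?_⟩
    rintro x ⟨hx, hgx⟩
    obtain ⟨g', -, rfl⟩ := Finset.mem_image.1 hx
    exact hRR _ _ ((hR g').trans hgx.symm)
  have h1X : (1 : G) ∈ X :=
    Finset.mem_image.2 ⟨1, Finset.mem_filter.2 ⟨Finset.mem_univ _, 0, by simp⟩, hR1⟩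
  have hTX : T ⊆ X.erase 1 := fun x hx => by
    obtain ⟨hRx, hx1, hxp⟩ := hT x hx
    exact Finset.mem_erase.2 ⟨hx1, Finset.mem_image.2
      ⟨x, Finset.mem_filter.2 ⟨Finset.mem_univ _, hxp⟩, hRx⟩⟩
  have h := hk
  rw [card_block_eq_sum_rank hM hB X hXp hXrep, ← Finset.add_sum_erase _ _ h1X] at h
  obtain ⟨b1, hb1, -, hrk, huniq⟩ := exists_block_one (p := p) hM hB
  rw [show {b : Set (IrrCharacter ↥(Subgroup.centralizer ({(1 : G)} : Set G))) |
      IsInducedBlock M (Subgroup.centralizer ({(1 : G)} : Set G)) b B} = {b1} from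
      Set.ext fun b => ⟨fun h => huniq b h, fun h => Set.mem_singleton_iff.1 h ▸ hb1⟩,
      finsum_mem_singleton, hrk] at h
  exact le_trans (Finset.sum_le_sum_of_subset hTX) (by omega)

omit hk in
theorem le_finsum_rank {x : G} {b : Set (IrrCharacter ↥(Subgroup.centralizer ({x} : Set G)))}
    (hb : IsInducedBlock M (Subgroup.centralizer ({x} : Set G)) b B) :
    blockRank p b ≤ ∑ᶠ b ∈ {b : Set (IrrCharacter ↥(Subgroup.centralizer ({x} : Set G))) |
      IsInducedBlock M (Subgroup.centralizer ({x} : Set G)) b B}, blockRank p b := by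
  classical
  rw [finsum_mem_eq_finite_toFinset_sum _ (Set.toFinite _)]
  exact Finset.single_le_sum (f := fun b => blockRank p b) (fun _ _ => Nat.zero_le _)
    ((Set.Finite.mem_toFinset _).2 hb)

/-- All subsections lie over one conjugacy class. -/
theorem isConj_of_sect {x y : G} (hx : x ≠ 1) (hy : y ≠ 1) (hxp : ∃ k : ℕ, orderOf x = p ^ k)
    (hyp : ∃ k : ℕ, orderOf y = p ^ k) (hxs : Sect M B x) (hys : Sect M B y) : IsConj x y := by
  classical
  by_contra hne
  obtain ⟨b, hb⟩ := hxs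
  obtain ⟨c, hc⟩ := hys
  let R : G → G := fun g => if IsConj g x then x else if IsConj g y then y else (ConjClasses.mk g).out
  have hR : ∀ g, IsConj g (R g) := fun g => by
    simp only [R]
    split_ifs with h1 h2
    · exact h1
    · exact h2
    · exact (ConjClasses.mk_eq_mk_iff_isConj.1 (Quotient.out_eq (ConjClasses.mk g))).symm
  have hRR : ∀ g g', IsConj g g' → R g = R g' := fun g g' h => by
    simp only [R, show IsConj g x ↔ IsConj g' x from ⟨h.symm.trans, h.trans⟩,
      show IsConj g y ↔ IsConj g' y from ⟨h.symm.trans, h.trans⟩,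
      ConjClasses.mk_eq_mk_iff_isConj.2 h]
  have hRx : R x = x := if_pos (IsConj.refl x)
  have hRy : R y = y := by
    simp only [R]
    rw [if_neg fun h => hne h.symm, if_pos (IsConj.refl y)]
  have hxy : x ≠ y := fun h => hne (h ▸ IsConj.refl x)
  have h := sum_rank_le hM hB hk R hR hRR {x, y} fun z hz => by
    rcases Finset.mem_insert.1 hz with rfl | hz
    · exact ⟨hRx, hx, hxp⟩
    · rw [Finset.mem_singleton.1 hz]; exact ⟨hRy, hy, hyp⟩
  rw [Finset.sum_pair hxy] at h
  have h1 := le_finsum_rank (p := p) hM hB hb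
  have h2 := le_finsum_rank (p := p) hM hB hc
  haveI := Fintype.ofFinite ↥(Subgroup.centralizer ({x} : Set G))
  have h3 := blockRank_pos (p := p) (Blocks.isPBlock_nonempty hb.1)
  haveI := Fintype.ofFinite ↥(Subgroup.centralizer ({y} : Set G))
  have h4 := blockRank_pos (p := p) (Blocks.isPBlock_nonempty hc.1)
  omega

/-- Each subsection has rank one. -/
theorem blockRank_eq_one {x : G} (hx : x ≠ 1) (hxp : ∃ k : ℕ, orderOf x = p ^ k)
    {b : Set (IrrCharacter ↥(Subgroup.centralizer ({x} : Set G)))}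
    (hb : IsInducedBlock M (Subgroup.centralizer ({x} : Set G)) b B) : blockRank p b = 1 := by
  classical
  let R : G → G := fun g => if IsConj g x then x else (ConjClasses.mk g).out
  have hR : ∀ g, IsConj g (R g) := fun g => by
    simp only [R]
    split_ifs with h1
    · exact h1
    · exact (ConjClasses.mk_eq_mk_iff_isConj.1 (Quotient.out_eq (ConjClasses.mk g))).symm
  have hRR : ∀ g g', IsConj g g' → R g = R g' := fun g g' h => by
    simp only [R, show IsConj g x ↔ IsConj g' x from ⟨h.symm.trans, h.trans⟩,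
      ConjClasses.mk_eq_mk_iff_isConj.2 h]
  have h := sum_rank_le hM hB hk R hR hRR {x} fun z hz => by
    rw [Finset.mem_singleton.1 hz]
    exact ⟨if_pos (IsConj.refl x), hx, hxp⟩
  rw [Finset.sum_singleton] at h
  have h1 := le_finsum_rank (p := p) hM hB hb
  haveI := Fintype.ofFinite ↥(Subgroup.centralizer ({x} : Set G))
  have h3 := blockRank_pos (p := p) (Blocks.isPBlock_nonempty hb.1)
  omega

/-- The non-identity elements of a defect group are conjugate. -/
theorem isConj_of_mem {D : Subgroup G} (hD : IsDefectGroup p M B D) {x y : G} (hx : x ∈ D)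
    (hy : y ∈ D) (hx1 : x ≠ 1) (hy1 : y ≠ 1) : IsConj x y :=
  isConj_of_sect hM hB hk hx1 hy1 (exists_order_of_mem (CfsgLib.Blocks.isPGroup_of_isDefectGroup hD) hx)
    (exists_order_of_mem (CfsgLib.Blocks.isPGroup_of_isDefectGroup hD) hy)
    (sect_of_mem_defect hM hB hD hx) (sect_of_mem_defect hM hB hD hy)

omit hB hk in
/-- All non-identity elements of a `p`-subgroup conjugate: exponent `p`. -/
theorem pow_eq_one_of_isConj {D : Subgroup G} (hD : IsPGroup p D)
    (hconj : ∀ x ∈ D, ∀ y ∈ D, x ≠ 1 → y ≠ 1 → IsConj x y) {x : G} (hx : x ∈ D) : x ^ p = 1 := by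
  by_cases hx1 : x = 1
  · rw [hx1, one_pow]
  obtain ⟨k, hk⟩ := exists_order_of_mem hD hx
  have hk0 : k ≠ 0 := fun h => hx1 (orderOf_eq_one_iff.1 (by rw [hk, h, pow_zero]))
  obtain ⟨j, rfl⟩ := Nat.exists_eq_succ_of_ne_zero hk0
  have ho : orderOf (x ^ p ^ j) = p := by
    rw [orderOf_pow' _ (pow_ne_zero _ hp.out.ne_zero), hk,
      Nat.gcd_eq_right (pow_dvd_pow p j.le_succ), pow_succ,
      Nat.mul_div_cancel_left _ (pow_pos hp.out.pos j)]
  have hne : x ^ p ^ j ≠ 1 := fun h => by rw [h, orderOf_one] at ho; exact hp.out.one_lt.ne ho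
  obtain ⟨c, hc⟩ := isConj_iff.1 (hconj _ (pow_mem hx _) x hx hne hx1)
  have h2 : orderOf x = p := by
    rw [← hc, show c * x ^ p ^ j * c⁻¹ = MulAut.conj c (x ^ p ^ j) from rfl,
      (MulAut.conj c).orderOf_eq, ho]
  rw [← h2, pow_orderOf_eq_one]

omit hk in
/-- The principal block case. -/
theorem isElementaryAbelian_of_principal
    (hnil : ∀ x : G, blockRank p (principalBlock M ↥(Subgroup.centralizer ({x} : Set G))) = 1 →
      HasNormalPComplement p ↥(Subgroup.centralizer ({x} : Set G)))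
    (hB0 : B = principalBlock M G) (hk : Nat.card B ≤ blockRank p B + 1) {D : Subgroup G}
    (hD : IsPGroup p D) : IsElementaryAbelian p D := by
  classical
  obtain ⟨S, hDS⟩ := hD.exists_le_sylow
  have hord : ∀ x ∈ (S : Subgroup G), ∃ k : ℕ, orderOf x = p ^ k := fun x hx =>
    exists_order_of_mem S.2 hx
  have hind : ∀ x ∈ (S : Subgroup G), IsInducedBlock M (Subgroup.centralizer ({x} : Set G))
      (principalBlock M ↥(Subgroup.centralizer ({x} : Set G))) B := fun x hx => by
    rw [hB0]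
    exact isInducedBlock_principal hM (hord x hx)
  have hconj : ∀ x ∈ (S : Subgroup G), ∀ y ∈ (S : Subgroup G), x ≠ 1 → y ≠ 1 → IsConj x y :=
    fun x hx y hy hx1 hy1 => isConj_of_sect hM hB hk hx1 hy1 (hord x hx) (hord y hy)
      ⟨_, hind x hx⟩ ⟨_, hind y hy⟩
  have hexp : ∀ x ∈ (S : Subgroup G), x ^ p = 1 := fun x hx =>
    pow_eq_one_of_isConj hM S.2 hconj hx
  have hcomm : ∀ x ∈ (S : Subgroup G), ∀ y ∈ (S : Subgroup G), x * y = y * x := by
    intro x hx y hy
    rcases eq_or_ne p 2 with rfl | hodd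
    · have hinv : ∀ w ∈ (S : Subgroup G), w⁻¹ = w := fun w hw =>
        inv_eq_of_mul_eq_one_right (by rw [← sq]; exact hexp w hw)
      calc x * y = (x * y)⁻¹ := (hinv _ (mul_mem hx hy)).symm
        _ = y * x := by rw [mul_inv_rev, hinv x hx, hinv y hy]
    · haveI := isMulCommutative_of_centralizers hodd S
        (fun w hw hw1 => hnil w (blockRank_eq_one hM hB hk hw1 (hord w hw) (hind w hw)))
        (fun w hw hw1 => hconj w hw _ (inv_mem hw) hw1 (inv_ne_one.2 hw1))
      exact congrArg Subtype.val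
        (mul_comm' (⟨x, hx⟩ : (S : Subgroup G)) ⟨y, hy⟩)
  exact ⟨⟨⟨fun a b => Subtype.ext (hcomm a (hDS a.2) b (hDS b.2))⟩⟩, fun a ha => hexp a (hDS ha)⟩

end Sections

end CfsgLib.Blocks.OneSubsection
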