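import Cfsg.Agent.Lib.Blocks.Omega
import Cfsg.Agent.Lib.Blocks.RootsOfUnity
import Cfsg.Agent.Lib.CharTheory.Decomp
import Cfsg.Agent.Lib.CharTheory.Linear
import Cfsg.Agent.Lib.CharTheory.Inflation

/-!
# Extensions of principal block characters of a normal subgroup (Alperin–Dade)

For an irreducible character `ψ` of `G` with irreducible restriction to a normal subgroup `N`, the
elements of `ℂ[G]` centralizing `N` act by scalars. When the restriction lies in the principal
block of `N`, these scalars agree modulo `M` with the augmentation up to a linear character of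
`G / N`, provided every coset of `N` meets the centralizer of a Sylow subgroup of `N`.
-/

set_option autoImplicit false
set_option linter.unusedSectionVars false
set_option linter.style.haveILetI false

namespace CfsgLib.Blocks.OrbitSums

open MonoidAlgebra Cfsg CfsgLib.CharTheory

variable {G : Type*} [Group G] [Finite G] {N : Subgroup G} [N.Normal]

/-- An element of `ℂ[G]` centralizing `N`. -/
def NInv (N : Subgroup G) (z : MonoidAlgebra ℂ G) : Prop :=
  ∀ n ∈ N, Commute (single n (1 : ℂ)) z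

omit [N.Normal] in
theorem NInv.mul {a b : MonoidAlgebra ℂ G} (ha : NInv N a) (hb : NInv N b) : NInv N (a * b) :=
  fun n hn => (ha n hn).mul_right (hb n hn)

/-- An irreducible restriction makes the representation irreducible. -/
theorem isIrreducible_of_comp {K : Type*} [Group K] {V : Type*} [AddCommGroup V] [Module ℂ V]
    (σ : Representation ℂ G V) (f : K →* G) (h : Representation.IsIrreducible (σ.comp f)) :
    σ.IsIrreducible := by
  let F : Subrepresentation σ → Subrepresentation (σ.comp f : Representation ℂ K V) := fun W =>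
    ⟨W.toSubmodule, fun k v hv => W.apply_mem_toSubmodule (f k) hv⟩
  have hF : ∀ {W W' : Subrepresentation σ}, F W = F W' → W = W' := fun {W W'} hW =>
    Subrepresentation.toSubmodule_injective
      (congrArg (fun X : Subrepresentation (σ.comp f : Representation ℂ K V) => X.toSubmodule) hW)
  have hbot : F ⊥ = ⊥ := rfl
  have htop : F ⊤ = ⊤ := rfl
  haveI := h
  haveI : Nontrivial (Subrepresentation σ) := by
    refine ⟨⊥, ⊤, fun he => ?_⟩
    have := congrArg F he
    rw [hbot, htop] at this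
    exact bot_ne_top this
  constructor
  intro W
  rcases IsSimpleOrder.eq_bot_or_eq_top (F W) with h' | h'
  · exact Or.inl (hF (h'.trans hbot.symm))
  · exact Or.inr (hF (h'.trans htop.symm))

/-- A character of `G` that is irreducible on `N` is the character of a representation that is
irreducible on `N`. -/
theorem exists_rep {χ : G → ℂ} (hχ : IsCharacter G χ)
    (hres : IsIrrCharacter N (fun x : N => χ x)) :
    ∃ (n : ℕ) (ρ : Representation ℂ G (Fin n → ℂ)),
      Representation.IsIrreducible (ρ.comp N.subtype) ∧ ρ.character = χ := by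
  obtain ⟨n, ρ, rfl⟩ := hχ
  obtain ⟨m, τ, hτ, hc⟩ := hres
  refine ⟨n, ρ, ?_, rfl⟩
  obtain ⟨φ⟩ := nonempty_equiv_of_character_eq τ (ρ.comp N.subtype : Representation ℂ N _)
    (hc.trans (funext fun _ => rfl))
  exact @isIrreducible_of_equiv _ _ _ _ _ _ _ _ _ _ φ hτ

theorem asAlgebraHom_eq_smul {n : ℕ} (ρ : Representation ℂ G (Fin n → ℂ))
    (hirr : Representation.IsIrreducible (ρ.comp N.subtype)) {z : MonoidAlgebra ℂ G}
    (hz : NInv N z) : ρ.asAlgebraHom z = omega ρ.character z • LinearMap.id := by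
  haveI := hirr
  obtain ⟨c, hc⟩ := exists_smul_of_commute (ρ.comp N.subtype : Representation ℂ N _)
    (ρ.asAlgebraHom z) fun g => by
      show ρ.asAlgebraHom z ∘ₗ ρ (g : G) = ρ (g : G) ∘ₗ ρ.asAlgebraHom z
      rw [← ρ.asAlgebraHom_single_one (g : G), ← Module.End.mul_eq_comp, ← Module.End.mul_eq_comp,
        ← map_mul, ← map_mul, (hz g g.2).eq]
  have hn : (Module.finrank ℂ (Fin n → ℂ) : ℂ) ≠ 0 := by
    exact_mod_cast (finrank_pos_of_isIrreducible (ρ.comp N.subtype : Representation ℂ N _)).ne'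
  have h := congrArg (LinearMap.trace ℂ (Fin n → ℂ)) hc
  rw [trace_asAlgebraHom, map_smul, LinearMap.trace_id, smul_eq_mul] at h
  rw [hc, omega, ρ.char_one, h, mul_div_cancel_right₀ _ hn]

/-- Multiplicativity of the scalar. -/
theorem omega_mul_of_nInv {χ : G → ℂ} (hχ : IsCharacter G χ)
    (hres : IsIrrCharacter N (fun x : N => χ x)) {z : MonoidAlgebra ℂ G} (hz : NInv N z)
    (a : MonoidAlgebra ℂ G) : omega χ (z * a) = omega χ z * omega χ a := by
  obtain ⟨n, ρ, hirr, rfl⟩ := exists_rep hχ hres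
  have h := trace_asAlgebraHom ρ (z * a)
  rw [map_mul, asAlgebraHom_eq_smul ρ hirr hz, Module.End.mul_eq_comp, LinearMap.smul_comp,
    LinearMap.id_comp, map_smul, trace_asAlgebraHom, smul_eq_mul] at h
  rw [omega, omega, omega, ← h, mul_div_assoc]
  rfl

/-- The scalar of an integral element is an algebraic integer. -/
theorem isIntegral_omega {χ : G → ℂ} (hχ : IsCharacter G χ)
    (hres : IsIrrCharacter N (fun x : N => χ x)) (z : MonoidAlgebra ℤ G)
    (hz : NInv N (mapRingHom G (Int.castRingHom ℂ) z)) :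
    IsIntegral ℤ (omega χ (mapRingHom G (Int.castRingHom ℂ) z)) := by
  classical
  haveI := Fintype.ofFinite G
  obtain ⟨n, ρ, hirr, rfl⟩ := exists_rep hχ hres
  haveI : Module.Finite ℤ (MonoidAlgebra ℤ G) :=
    Module.Finite.of_surjective
      (Fintype.linearCombination ℤ fun x : G => (single x 1 : MonoidAlgebra ℤ G)) (fun z => by
        refine ⟨fun x => z.coeff x, MonoidAlgebra.ext (Finsupp.ext fun y => ?_)⟩
        rw [Fintype.linearCombination_apply, coeff_finsetSum_apply]
        simp [Finsupp.single_apply])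
  have h1 : IsIntegral ℤ z := IsIntegral.of_finite ℤ _
  have h2 : IsIntegral ℤ
      ((ρ.asAlgebraHom.toRingHom.comp (mapRingHom G (Int.castRingHom ℂ))).toIntAlgHom z) :=
    h1.map _
  have h3 : (ρ.asAlgebraHom.toRingHom.comp (mapRingHom G (Int.castRingHom ℂ))).toIntAlgHom z =
      algebraMap ℂ (Module.End ℂ (Fin n → ℂ))
        (omega ρ.character (mapRingHom G (Int.castRingHom ℂ) z)) := by
    rw [Algebra.algebraMap_eq_smul_one, Module.End.one_eq_id, ← asAlgebraHom_eq_smul ρ hirr hz]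
    rfl
  rw [h3] at h2
  haveI : Nontrivial (Fin n → ℂ) :=
    nontrivial_of_isIrreducible (ρ.comp N.subtype : Representation ℂ N _)
  exact (isIntegral_algebraMap_iff
    (algebraMap ℂ (Module.End ℂ (Fin n → ℂ))).injective).1 h2

/-- The orbit of `g` under conjugation by `N`. -/
noncomputable def orb (N : Subgroup G) (g : G) : Finset G :=
  (Set.range fun n : N => (n : G) * g * (n : G)⁻¹).toFinite.toFinset

omit [N.Normal] in
theorem mem_orb {g x : G} : x ∈ orb N g ↔ ∃ n ∈ N, n * g * n⁻¹ = x := by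
  rw [orb, Set.Finite.mem_toFinset]
  exact ⟨fun ⟨⟨n, hn⟩, e⟩ => ⟨n, hn, e⟩, fun ⟨n, hn, e⟩ => ⟨⟨n, hn⟩, e⟩⟩

omit [N.Normal] in
theorem self_mem_orb (g : G) : g ∈ orb N g := mem_orb.2 ⟨1, one_mem _, by group⟩

omit [N.Normal] in
theorem orb_eq_of_mem {g x : G} (hx : x ∈ orb N g) : orb N x = orb N g := by
  obtain ⟨n, hn, rfl⟩ := mem_orb.1 hx
  ext y
  simp only [mem_orb]
  constructor
  · rintro ⟨m, hm, rfl⟩; exact ⟨m * n, mul_mem hm hn, by group⟩
  · rintro ⟨m, hm, rfl⟩; exact ⟨m * n⁻¹, mul_mem hm (inv_mem hn), by group⟩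

theorem mk_eq_of_mem_orb {g x : G} (hx : x ∈ orb N g) : (x : G ⧸ N) = g := by
  obtain ⟨n, hn, rfl⟩ := mem_orb.1 hx
  simp [(QuotientGroup.eq_one_iff n).2 hn]

/-- The sum of a finite set of group elements. -/
noncomputable def fsum (R : Type*) [CommRing R] (S : Finset G) : MonoidAlgebra R G :=
  ∑ x ∈ S, single x 1

theorem omega_fsum (χ : G → ℂ) (S : Finset G) :
    omega χ (fsum ℂ S) = ∑ x ∈ S, χ x / χ 1 := by
  rw [fsum, omega_finsetSum]
  exact Finset.sum_congr rfl fun x _ => by rw [omega_single, one_mul]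

omit [N.Normal] in
theorem nInv_fsum {S : Finset G} (hS : ∀ n ∈ N, ∀ x ∈ S, n * x * n⁻¹ ∈ S) :
    NInv N (fsum ℂ S) := by
  intro n hn
  rw [Commute, SemiconjBy, fsum, Finset.mul_sum, Finset.sum_mul]
  refine Finset.sum_nbij' (fun x => n * x * n⁻¹) (fun x => n⁻¹ * x * n) (fun x hx => hS n hn x hx)
    (fun x hx => by simpa using hS n⁻¹ (inv_mem hn) x hx) (fun x _ => by group)
    (fun x _ => by group) fun x _ => ?_
  rw [single_mul_single, single_mul_single]
  congr 1
  group

omit [N.Normal] in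
theorem orb_invariant (g : G) : ∀ n ∈ N, ∀ x ∈ orb N g, n * x * n⁻¹ ∈ orb N g := by
  intro n hn x hx
  obtain ⟨m, hm, rfl⟩ := mem_orb.1 hx
  exact mem_orb.2 ⟨n * m, mul_mem hn hm, by group⟩

omit [N.Normal] in
theorem nInv_orb (g : G) : NInv N (fsum ℂ (orb N g)) := nInv_fsum (orb_invariant g)

/-- Supported in the coset `c`. -/
def Supp (N : Subgroup G) (z : MonoidAlgebra ℂ G) (c : G ⧸ N) : Prop :=
  ∀ x : G, z.coeff x ≠ 0 → (x : G ⧸ N) = c

theorem supp_orb (g : G) : Supp N (fsum ℂ (orb N g)) (g : G ⧸ N) := by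
  classical
  intro x hx
  rw [fsum, coeff_finsetSum_apply] at hx
  obtain ⟨y, hy, hyx⟩ := Finset.exists_ne_zero_of_sum_ne_zero hx
  rw [coeff_single, Finsupp.single_apply] at hyx
  split at hyx
  next e => exact e ▸ mk_eq_of_mem_orb hy
  next => exact absurd rfl hyx

theorem Supp.mul {a b : MonoidAlgebra ℂ G} {c d : G ⧸ N} (ha : Supp N a c) (hb : Supp N b d) :
    Supp N (a * b) (c * d) := by
  haveI := Fintype.ofFinite G
  intro x hx
  rw [coeff_mul_eq_sum] at hx
  obtain ⟨y, -, hy⟩ := Finset.exists_ne_zero_of_sum_ne_zero hx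
  rw [← ha y (left_ne_zero_of_mul hy), ← hb _ (right_ne_zero_of_mul hy), ← QuotientGroup.mk_mul,
    mul_inv_cancel_left]

section Modular

variable {p : ℕ} {M : Ideal AlgInt} [M.IsPrime]

/-- Local coefficients. -/
def Loc (M : Ideal AlgInt) (z : MonoidAlgebra ℂ G) : Prop := ∀ x, MemLocalRing M (z.coeff x)

theorem loc_fsum (S : Finset G) : Loc M (fsum ℂ S) := by
  classical
  intro x
  rw [fsum, coeff_finsetSum_apply]
  refine memLocalRing_sum fun y _ => ?_
  rw [coeff_single, Finsupp.single_apply]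
  split
  · simpa using memLocalRing_natCast (M := M) 1
  · simpa using memLocalRing_natCast (M := M) 0

theorem Loc.mul {a b : MonoidAlgebra ℂ G} (ha : Loc M a) (hb : Loc M b) : Loc M (a * b) := by
  haveI := Fintype.ofFinite G
  intro x
  rw [coeff_mul_eq_sum]
  exact memLocalRing_sum fun y _ => memLocalRing_mul (ha _) (hb _)

theorem omega_eq_sum_subgroup [Fintype N] (χ : G → ℂ) {z : MonoidAlgebra ℂ G}
    (hs : Supp N z 1) : omega χ z = (∑ n : N, z.coeff n * χ n) / χ 1 := by
  classical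
  haveI := Fintype.ofFinite G
  rw [omega_eq_sum]
  congr 1
  rw [← Finset.sum_subset (Finset.subset_univ ((Finset.univ : Finset N).map
    (Function.Embedding.subtype _))) (fun x _ hx => ?_), Finset.sum_map]
  · rfl
  · by_contra hne
    exact hx (Finset.mem_map.2 ⟨⟨x, (QuotientGroup.eq_one_iff x).1 (hs x (left_ne_zero_of_mul hne))⟩,
      Finset.mem_univ _, rfl⟩)

/-- On elements supported in `N`, the scalar is congruent to the augmentation. -/
theorem omega_sub_aug_of_supp {χ : G → ℂ} (θ : IrrCharacter N)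
    (hθ : θ ∈ principalBlock M N) (hχθ : ∀ x : N, χ x = (θ : N → ℂ) x)
    {z : MonoidAlgebra ℂ G} (hz : NInv N z) (hl : Loc M z) (hs : Supp N z 1) :
    MemLocalIdeal M (omega χ z - omega (fun _ : G => (1 : ℂ)) z) := by
  classical
  haveI := Fintype.ofFinite N
  haveI := Fintype.ofFinite (ConjClasses N)
  set z' : MonoidAlgebra ℂ N := ofFun fun n : N => z.coeff (n : G) with hz'
  have hcl : IsClassElem z' := by
    refine isClassElem_ofFun fun m x => ?_
    have h1 := congrArg (fun w : MonoidAlgebra ℂ G => w.coeff ((m : G) * x)) (hz m m.2).eq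
    simp only [coeff_single_mul_apply, coeff_mul_single_apply, one_mul, mul_one] at h1
    push_cast
    rw [← h1]
    group
  have e1 : ∀ (f : G → ℂ) (f' : N → ℂ), (∀ x : N, f x = f' x) →
      omega f z = omega f' z' := by
    intro f f' hff
    rw [omega_eq_sum_subgroup f hs, omega_eq_sum]
    simp only [hz', coeff_ofFun, ← hff, Subgroup.coe_one]
  rw [e1 χ _ hχθ, e1 (fun _ => 1) (fun _ => 1) (fun _ => rfl),
    omega_eq_sum_classes (IsIrrCharacter.isClassFunction θ.2) hcl,
    omega_eq_sum_classes (IsIrrCharacter.isClassFunction isIrrCharacter_one) hcl,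
    ← Finset.sum_sub_distrib]
  refine memLocalIdeal_sum fun c _ => ?_
  rw [← mul_sub]
  exact memLocalIdeal_mul_left (hl _) (memLocalIdeal_sub_comm.1 (hθ c.out))

theorem memLocalRing_omega_fsum {χ : G → ℂ} (hχ : IsCharacter G χ)
    (hres : IsIrrCharacter N (fun x : N => χ x)) {S : Finset G}
    (hS : ∀ n ∈ N, ∀ x ∈ S, n * x * n⁻¹ ∈ S) : MemLocalRing M (omega χ (fsum ℂ S)) := by
  have e : mapRingHom G (Int.castRingHom ℂ) (fsum ℤ S) = fsum ℂ S := by
    rw [fsum, fsum, map_sum]
    exact Finset.sum_congr rfl fun x _ => by rw [mapRingHom_single]; simp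
  rw [← e]
  exact memLocalRing_of_isIntegral
    (isIntegral_omega hχ hres _ (e.symm ▸ nInv_fsum hS))

/-- The size of an orbit of an element centralizing a Sylow subgroup of `N` is prime to `p`. -/
theorem not_dvd_card_orb [Fact p.Prime] (P : Sylow p N) {g : G}
    (hg : ∀ y : N, y ∈ (P : Subgroup N) → (y : G) * g = g * y) :
    ¬ p ∣ (orb N g).card := by
  classical
  haveI := Fintype.ofFinite N
  set C : Subgroup N := (Subgroup.centralizer ({g} : Set G)).subgroupOf N with hC
  have hPC : (P : Subgroup N) ≤ C := fun y hy => by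
    rw [hC, Subgroup.mem_subgroupOf, Subgroup.mem_centralizer_singleton_iff]
    exact hg y hy
  let f : N ⧸ C → G := Quotient.lift (fun n : N => (n : G) * g * (n : G)⁻¹) (fun a b hab => by
    have h' : a⁻¹ * b ∈ C := QuotientGroup.leftRel_apply.mp hab
    rw [hC, Subgroup.mem_subgroupOf, Subgroup.mem_centralizer_singleton_iff] at h'
    push_cast at h'
    show (a : G) * g * (a : G)⁻¹ = (b : G) * g * (b : G)⁻¹
    calc (a : G) * g * (a : G)⁻¹ = (a : G) * (g * ((a : G)⁻¹ * b)) * (b : G)⁻¹ := by group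
      _ = (a : G) * (((a : G)⁻¹ * b) * g) * (b : G)⁻¹ := by rw [h']
      _ = (b : G) * g * (b : G)⁻¹ := by group)
  have hinj : Function.Injective f := by
    intro x y hxy
    induction x using QuotientGroup.induction_on with
    | H a =>
      induction y using QuotientGroup.induction_on with
      | H b =>
        have h : (a : G) * g * (a : G)⁻¹ = (b : G) * g * (b : G)⁻¹ := hxy
        rw [QuotientGroup.eq, hC, Subgroup.mem_subgroupOf, Subgroup.mem_centralizer_singleton_iff]
        push_cast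
        calc (a : G)⁻¹ * b * g = (a : G)⁻¹ * ((b : G) * g * (b : G)⁻¹) * b := by group
          _ = (a : G)⁻¹ * ((a : G) * g * (a : G)⁻¹) * b := by rw [h]
          _ = g * ((a : G)⁻¹ * b) := by group
  have hcard : (orb N g).card = C.index := by
    haveI := Fintype.ofFinite (N ⧸ C)
    rw [Subgroup.index, Nat.card_eq_fintype_card, ← Finset.card_univ,
      ← Finset.card_image_of_injective _ hinj]
    congr 1
    ext x
    simp only [mem_orb, Finset.mem_image, Finset.mem_univ, true_and]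
    constructor
    · rintro ⟨n, hn, rfl⟩; exact ⟨QuotientGroup.mk ⟨n, hn⟩, rfl⟩
    · rintro ⟨q, rfl⟩
      induction q using QuotientGroup.induction_on with
      | H a => exact ⟨a, a.2, rfl⟩
  rw [hcard]
  exact fun hd => P.not_dvd_index (hd.trans (Subgroup.index_dvd_of_le hPC))

/-- The linear character comparing the scalars with the augmentation. -/
theorem exists_linear_congr [Fact p.Prime] (hM : IsPModular p M) (P : Sylow p N)
    (hcov : N ⊔ Subgroup.centralizer (((P : Subgroup N).map N.subtype : Subgroup G) : Set G) = ⊤)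
    (θ : IrrCharacter N) (hθ : θ ∈ principalBlock M N) (ψ : IrrCharacter G)
    (hψ : ∀ x : N, (ψ : G → ℂ) x = (θ : N → ℂ) x) :
    ∃ μ : G →* ℂˣ, (∀ n ∈ N, μ n = 1) ∧ ∀ g : G, MemLocalIdeal M
      (omega (fun x => (μ x : ℂ) * (ψ : G → ℂ) x) (fsum ℂ (orb N g)) - ((orb N g).card : ℂ)) := by
  classical
  haveI := charP_res hM
  haveI : M.IsMaximal := hM.2.1
  set C := Subgroup.centralizer (((P : Subgroup N).map N.subtype : Subgroup G) : Set G) with hC
  have hres : IsIrrCharacter N (fun x : N => (ψ : G → ℂ) x) := by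
    rw [show (fun x : N => (ψ : G → ℂ) x) = (θ : N → ℂ) from funext hψ]; exact θ.2
  have hψc := IsIrrCharacter.isCharacter ψ.2
  have hrep : ∀ q : G ⧸ N, ∃ c ∈ C, (c : G ⧸ N) = q := by
    intro q
    induction q using QuotientGroup.induction_on with
    | H g =>
      have hg : g ∈ N ⊔ C := hcov ▸ Subgroup.mem_top g
      obtain ⟨y, hy, z, hz, rfl⟩ := Subgroup.mem_sup_of_normal_left.1 hg
      exact ⟨z, hz, by simp [(QuotientGroup.eq_one_iff y).2 hy]⟩
  choose r hrC hr using hrep
  let Ω : G → Res M := fun g =>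
    red M ⟨omega (ψ : G → ℂ) (fsum ℂ (orb N g)),
      memLocalRing_omega_fsum hψc hres (orb_invariant g)⟩
  let K : G → Res M := fun g => ((orb N g).card : Res M)
  have haug : ∀ S : Finset G, omega (fun _ : G => (1 : ℂ)) (fsum ℂ S) = (S.card : ℂ) := fun S => by
    rw [omega_fsum]; simp
  have hone : IsCharacter G (fun _ : G => (1 : ℂ)) := IsIrrCharacter.isCharacter isIrrCharacter_one
  have hone' : IsIrrCharacter N (fun _ : N => (1 : ℂ)) := isIrrCharacter_one
  -- the key congruences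
  have key2 : ∀ a b : G, ((a * b : G) : G ⧸ N) = 1 → Ω a * Ω b = K a * K b := by
    intro a b hab
    have h1 := omega_sub_aug_of_supp θ hθ hψ ((nInv_orb (N := N) a).mul (nInv_orb b))
      ((loc_fsum (M := M) _).mul (loc_fsum _))
      (hab ▸ (QuotientGroup.mk_mul N a b) ▸ (supp_orb a).mul (supp_orb b))
    rw [omega_mul_of_nInv hψc hres (nInv_orb a), omega_mul_of_nInv hone hone' (nInv_orb a),
      haug, haug] at h1
    simp only [Ω, K, ← map_natCast (red M), ← map_mul, red_eq_red_iff]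
    push_cast
    exact h1
  have key3 : ∀ a b c : G, ((a * b * c : G) : G ⧸ N) = 1 → Ω a * Ω b * Ω c = K a * K b * K c := by
    intro a b c hab
    have h1 := omega_sub_aug_of_supp θ hθ hψ
      (((nInv_orb (N := N) a).mul (nInv_orb b)).mul (nInv_orb c))
      (((loc_fsum (M := M) _).mul (loc_fsum _)).mul (loc_fsum _))
      (hab ▸ (QuotientGroup.mk_mul N (a * b) c) ▸ (QuotientGroup.mk_mul N a b) ▸
        ((supp_orb a).mul (supp_orb b)).mul (supp_orb c))
    rw [omega_mul_of_nInv hψc hres ((nInv_orb a).mul (nInv_orb b)),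
      omega_mul_of_nInv hone hone' ((nInv_orb a).mul (nInv_orb b)),
      omega_mul_of_nInv hψc hres (nInv_orb a), omega_mul_of_nInv hone hone' (nInv_orb a),
      haug, haug, haug] at h1
    simp only [Ω, K, ← map_natCast (red M), ← map_mul, red_eq_red_iff]
    push_cast
    exact h1
  have hK : ∀ q, K (r q) ≠ 0 := fun q => by
    simp only [K, Ne, CharP.cast_eq_zero_iff (Res M) p]
    refine not_dvd_card_orb P fun y hy => ?_
    exact (Subgroup.mem_centralizer_iff.1 (hrC q) y ⟨y, hy, rfl⟩)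
  let E : G ⧸ N → Res M := fun q => Ω (r q) / K (r q)
  have hE2 : ∀ q, E q * E q⁻¹ = 1 := fun q => by
    simp only [E]
    rw [div_mul_div_comm, key2 _ _ (by rw [QuotientGroup.mk_mul, hr, hr, mul_inv_cancel]),
      div_self (mul_ne_zero (hK _) (hK _))]
  have hE3 : ∀ q q', E q * E q' = E (q * q') := fun q q' => by
    have h1 : E q * E q' * E (q * q')⁻¹ = 1 := by
      simp only [E]
      rw [div_mul_div_comm, div_mul_div_comm, key3 _ _ _
        (by rw [QuotientGroup.mk_mul, QuotientGroup.mk_mul, hr, hr, hr, mul_inv_cancel]),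
        div_self (mul_ne_zero (mul_ne_zero (hK _) (hK _)) (hK _))]
    have h2 := hE2 (q * q')
    have h3 : E (q * q')⁻¹ ≠ 0 := right_ne_zero_of_mul (h2 ▸ one_ne_zero)
    exact mul_right_cancel₀ h3 (h1.trans h2.symm)
  have hE0 : ∀ q, E q ≠ 0 := fun q => left_ne_zero_of_mul (hE2 q ▸ one_ne_zero)
  have hgen : ∀ x : G, Ω x = E (x : G ⧸ N) * K x := fun x => by
    have h1 := key2 x (r (x : G ⧸ N)⁻¹) (by rw [QuotientGroup.mk_mul, hr, mul_inv_cancel])
    have h2 := hE2 (x : G ⧸ N)
    have h3 : Ω (r (x : G ⧸ N)⁻¹) = E (x : G ⧸ N)⁻¹ * K (r (x : G ⧸ N)⁻¹) := by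
      simp only [E]; rw [div_mul_cancel₀ _ (hK _)]
    rw [h3] at h1
    refine mul_right_cancel₀ (hK (x : G ⧸ N)⁻¹) ?_
    calc Ω x * K (r (x : G ⧸ N)⁻¹)
        = E (x : G ⧸ N) * (Ω x * (E (x : G ⧸ N)⁻¹ * K (r (x : G ⧸ N)⁻¹))) := by
          linear_combination (-(Ω x * K (r (x : G ⧸ N)⁻¹))) * h2
      _ = _ := by rw [h1]; ring
  -- lift to roots of unity of order prime to `p`
  have hlift : ∀ q : G ⧸ N, ∃ z : ℂ, (∃ m : ℕ, ¬ p ∣ m ∧ z ^ m = 1) ∧ ∃ hz : MemLocalRing M z,
      red M ⟨z, hz⟩ = E q⁻¹ := by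
    intro q
    obtain ⟨a, ha⟩ := redInt_surjective (M := M) (E q⁻¹)
    obtain ⟨ε, hε, hεm⟩ := exists_root_of_unity_sub_mem hM a
      (fun h => hE0 q⁻¹ (ha ▸ (redInt_eq_zero_iff a).2 h))
    refine ⟨ε, hε, memLocalRing_coe ε, ?_⟩
    rw [← ha, ← redInt_eq_red ε ⟨(ε : ℂ), memLocalRing_coe ε⟩ rfl, eq_comm, ← sub_eq_zero,
      ← map_sub, redInt_eq_zero_iff]
    exact hεm
  choose z hzm hzl hzr using hlift
  have hmul : ∀ q q', z (q * q') = z q * z q' := by
    intro q q'
    obtain ⟨m, hm, hzm1⟩ := hzm (q * q')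
    obtain ⟨m1, hm1, hz1⟩ := hzm q
    obtain ⟨m2, hm2, hz2⟩ := hzm q'
    refine eq_of_sub_mem_of_pow_eq_one hM hm (fun hd => (hM.1.dvd_mul.1 hd).elim hm1 hm2) hzm1
      (show (z q * z q') ^ (m1 * m2) = 1 by
        rw [mul_pow, pow_mul, hz1, one_pow, one_mul, mul_comm m1, pow_mul, hz2, one_pow]) ?_
    refine (red_eq_red_iff ⟨z (q * q'), hzl _⟩ ⟨z q * z q', memLocalRing_mul (hzl q) (hzl q')⟩).1 ?_
    rw [show (⟨z q * z q', memLocalRing_mul (hzl q) (hzl q')⟩ : locRing M) =
      ⟨z q, hzl q⟩ * ⟨z q', hzl q'⟩ from rfl, map_mul, hzr, hzr, hzr, hE3, mul_inv_rev]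
    rw [← hE3, mul_comm, hE3]
  have hz0 : ∀ q, z q ≠ 0 := fun q e => by
    obtain ⟨m, hm, h1⟩ := hzm q
    rw [e] at h1
    rcases Nat.eq_zero_or_pos m with rfl | hm0
    · exact hm (dvd_zero p)
    · rw [zero_pow hm0.ne'] at h1; exact zero_ne_one h1
  let μ : G →* ℂˣ := MonoidHom.mk' (fun g => Units.mk0 (z (g : G ⧸ N)) (hz0 _))
    (fun a b => Units.ext (by simp [hmul]))
  refine ⟨μ, fun n hn => ?_, fun g => ?_⟩
  · have h1 : μ 1 = 1 := map_one μ
    rw [← h1]
    exact Units.ext (by simp [μ, (QuotientGroup.eq_one_iff n).2 hn])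
  · have h1 : omega (fun x => (μ x : ℂ) * (ψ : G → ℂ) x) (fsum ℂ (orb N g)) =
        z (g : G ⧸ N) * omega (ψ : G → ℂ) (fsum ℂ (orb N g)) := by
      rw [omega_fsum, omega_fsum, Finset.mul_sum]
      refine Finset.sum_congr rfl fun x hx => ?_
      simp only [μ, MonoidHom.mk'_apply, Units.val_mk0, mk_eq_of_mem_orb hx, map_one, Units.val_one,
        one_mul, mul_div_assoc]
    rw [h1]
    refine (red_eq_red_iff ⟨z (g : G ⧸ N) * _, memLocalRing_mul (hzl _)
      (memLocalRing_omega_fsum hψc hres (orb_invariant g))⟩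
      ((orb N g).card : locRing M)).1 ?_
    rw [show (⟨z (g : G ⧸ N) * _, memLocalRing_mul (hzl _)
      (memLocalRing_omega_fsum hψc hres (orb_invariant g))⟩ : locRing M) =
      ⟨z (g : G ⧸ N), hzl _⟩ * ⟨omega (ψ : G → ℂ) (fsum ℂ (orb N g)),
        memLocalRing_omega_fsum hψc hres (orb_invariant g)⟩ from rfl, map_mul, hzr, map_natCast]
    show E (g : G ⧸ N)⁻¹ * Ω g = K g
    rw [hgen, ← mul_assoc, mul_comm (E (g : G ⧸ N)⁻¹), hE2, one_mul]

/-- Congruence on every `N`-stable finite set. -/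
theorem memLocalIdeal_sum_sub {χ : G → ℂ}
    (hχ : ∀ g : G, MemLocalIdeal M (omega χ (fsum ℂ (orb N g)) - ((orb N g).card : ℂ)))
    (S : Finset G) (hS : ∀ n ∈ N, ∀ x ∈ S, n * x * n⁻¹ ∈ S) :
    MemLocalIdeal M (∑ x ∈ S, χ x / χ 1 - (S.card : ℂ)) := by
  classical
  have hfib : ∀ O ∈ S.image (orb N), (S.filter fun x => orb N x = O) = O := by
    intro O hO
    obtain ⟨g, hg, rfl⟩ := Finset.mem_image.1 hO
    ext x
    rw [Finset.mem_filter]
    refine ⟨fun ⟨_, e⟩ => e ▸ self_mem_orb x, fun hx => ⟨?_, orb_eq_of_mem hx⟩⟩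
    obtain ⟨n, hn, rfl⟩ := mem_orb.1 hx
    exact hS n hn g hg
  have hcast : (S.card : ℂ) = ∑ x ∈ S, (1 : ℂ) := by simp
  rw [hcast, ← Finset.sum_sub_distrib,
    ← Finset.sum_fiberwise_of_maps_to (g := orb N) (fun x hx => Finset.mem_image_of_mem _ hx)]
  refine memLocalIdeal_sum fun O hO => ?_
  rw [hfib O hO]
  obtain ⟨g, -, rfl⟩ := Finset.mem_image.1 hO
  have := hχ g
  rw [omega_fsum] at this
  simpa using this

end Modular

end CfsgLib.Blocks.OrbitSums
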