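import Cfsg.Agent.Lib.Blocks.DefectZero
import Cfsg.Agent.Lib.CharTheory.Burnside
import Cfsg.Agent.Lib.CharTheory.Linear

/-!
# Characters of prime power degree in principal blocks of simple groups
-/

set_option autoImplicit false
set_option linter.unusedSectionVars false
set_option linter.style.haveILetI false

open scoped ComplexConjugate
open MonoidAlgebra Cfsg Module

namespace CfsgLib.Blocks

variable {G : Type*} [Group G] [Finite G]

/-- Burnside: in a nonabelian simple group a nontrivial character vanishes where its degree is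
coprime to the class size. -/
theorem irr_eq_zero_of_coprime [IsSimpleGroup G] (hna : ∃ a b : G, a * b ≠ b * a)
    (χ : IrrCharacter G) (hχ : (χ : G → ℂ) ≠ fun _ => 1) {g : G} (hg : g ≠ 1)
    (hcop : Nat.Coprime (charDegree (χ : G → ℂ))
      (Subgroup.centralizer ({g} : Set G)).index) : (χ : G → ℂ) g = 0 := by
  classical
  haveI := Fintype.ofFinite G
  obtain ⟨n, ρ, hρ, hρχ⟩ := χ.2
  haveI := hρ
  have hdeg : charDegree (χ : G → ℂ) = finrank ℂ (Fin n → ℂ) := by
    simp [charDegree, ← hρχ, ρ.char_one]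
  rw [← hρχ]
  rcases CharTheory.character_eq_zero_or_norm_of_coprime ρ g (hdeg ▸ hcop) with h0 | h1
  · exact h0
  exfalso
  obtain ⟨ω, hω⟩ := (CharTheory.norm_character_eq_iff ρ g).1 h1
  rcases (inferInstance : (ρ.ker).Normal).eq_bot_or_eq_top with hk | hk
  · have hc : g ∈ Subgroup.center G := Subgroup.mem_center_iff.2 fun y => by
      have hmem : y * g * (g * y)⁻¹ ∈ ρ.ker := by
        have he : ρ (y * g) = ρ (g * y) := by
          rw [map_mul, map_mul, hω, mul_smul_comm, smul_mul_assoc]; rfl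
        rw [MonoidHom.mem_ker, map_mul, he, ← map_mul, mul_inv_cancel, map_one]
      rw [hk, Subgroup.mem_bot, mul_inv_eq_one] at hmem
      exact hmem
    obtain ⟨a, b, hab⟩ := hna
    rcases (inferInstance : (Subgroup.center G).Normal).eq_bot_or_eq_top with hZ | hZ
    · exact hg (Subgroup.mem_bot.1 (hZ ▸ hc))
    · exact hab (Subgroup.mem_center_iff.1 (hZ ▸ Subgroup.mem_top b) a)
  · apply hχ
    have hconst : ρ.character = fun _ => (finrank ℂ (Fin n → ℂ) : ℂ) := funext fun y => by
      have : ρ y = 1 := MonoidHom.mem_ker.1 (hk ▸ Subgroup.mem_top y)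
      rw [Representation.character, this, LinearMap.trace_one]
    by_contra hne'
    have h0 := CharTheory.classInner_eq_zero_of_ne χ.2 (CharTheory.trivIrr G).2 hne'
    rw [← hρχ, hconst] at h0
    have hpos := CharTheory.finrank_pos_of_isIrreducible ρ
    simp [classInner, CharTheory.trivIrr] at h0 hpos
    omega

/-- A linear character of a nonabelian simple group is trivial. -/
theorem eq_one_of_degree_one [IsSimpleGroup G] (hna : ∃ a b : G, a * b ≠ b * a)
    (χ : IrrCharacter G) (h1 : (χ : G → ℂ) 1 = 1) : (χ : G → ℂ) = fun _ => 1 := by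
  obtain ⟨μ, hμ⟩ := CharTheory.exists_hom_of_degree_one χ.2 h1
  obtain ⟨a, b, hab⟩ := hna
  rcases (inferInstance : (μ.ker).Normal).eq_bot_or_eq_top with hk | hk
  · refine absurd ((MonoidHom.ker_eq_bot_iff μ).1 hk ?_) hab
    rw [map_mul, map_mul, mul_comm]
  · rw [hμ]
    funext g
    rw [MonoidHom.mem_ker.1 (hk ▸ Subgroup.mem_top g), Units.val_one]

variable {p : ℕ} [Fact p.Prime] {M : Ideal AlgInt} [M.IsPrime]

/-- The only character of `p`-power degree in the principal block of a nonabelian simple group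
is the trivial one. -/
theorem eq_one_of_mem_principalBlock [IsSimpleGroup G] (hM : IsPModular p M)
    (hna : ∃ a b : G, a * b ≠ b * a) {χ : IrrCharacter G} (hχ : χ ∈ principalBlock M G) {k : ℕ}
    (hdeg : (χ : G → ℂ) 1 = (p : ℂ) ^ k) : (χ : G → ℂ) = fun _ => 1 := by
  rcases Nat.eq_zero_or_pos k with rfl | hk
  · exact eq_one_of_degree_one hna χ (by rw [hdeg, pow_zero])
  by_contra hne
  have hd : charDegree (χ : G → ℂ) = p ^ k := by
    have h : (charDegree (χ : G → ℂ) : ℂ) = ((p ^ k : ℕ) : ℂ) := by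
      rw [charDegree_cast, hdeg, Nat.cast_pow]
    exact_mod_cast h
  have hpG : p ∣ Nat.card G :=
    ((dvd_pow_self p hk.ne').trans (hd ▸ charDegree_dvd_card χ : p ^ k ∣ Nat.card G))
  obtain ⟨S⟩ := (inferInstance : Nonempty (Sylow p G))
  haveI : Nontrivial (S : Subgroup G) := (Subgroup.nontrivial_iff_ne_bot _).mpr
    (S.ne_bot_of_dvd_card hpG)
  haveI := S.2.center_nontrivial
  obtain ⟨x, hx⟩ := exists_ne (1 : Subgroup.center (S : Subgroup G))
  set g : G := ((x : (S : Subgroup G)) : G) with hgdef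
  have hg : g ≠ 1 := fun h => hx (Subtype.ext (Subtype.ext h))
  have hidx : ¬ p ∣ (Subgroup.centralizer ({g} : Set G)).index := by
    intro h
    refine S.not_dvd_index (h.trans (Subgroup.index_dvd_of_le fun w hw => ?_))
    exact Subgroup.mem_centralizer_singleton_iff.mpr
      (congrArg Subtype.val (Subgroup.mem_center_iff.1 x.2 ⟨w, hw⟩))
  have h0 := irr_eq_zero_of_coprime hna χ hne hg (by
    rw [hd]
    exact Nat.Coprime.pow_left k ((Fact.out : p.Prime).coprime_iff_not_dvd.mpr hidx))
  have h := hχ g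
  simp only [centralChar_apply, h0, mul_zero, zero_div, sub_zero, mul_one, div_one] at h
  exact hidx ((memLocalIdeal_natCast_iff hM _).mp h)

/-- In a simple group of order `p ^ a * q ^ b * r` no element of order `p` commutes with one
of order `r`. -/
theorem false_of_commute_of_card [IsSimpleGroup G] {q r a b : ℕ} [Fact r.Prime] (hq : q.Prime)
    (hpr : p ≠ r) (hna : ∃ x y : G, x * y ≠ y * x)
    (hcard : Nat.card G = p ^ a * q ^ b * r) {s t : G} (hs : orderOf s = r) (ht : orderOf t = p)
    (hst : Commute s t) : False := by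
  classical
  haveI := Fintype.ofFinite G
  haveI := Fintype.ofFinite (IrrCharacter G)
  have hp : p.Prime := Fact.out
  obtain ⟨M, hM⟩ := exists_isPModular_of_prime hp
  haveI := isPrime_of_isPModular hM
  have hcop : Nat.Coprime (orderOf s) (orderOf t) := by
    rw [hs, ht]
    exact (Nat.coprime_primes Fact.out hp).mpr (Ne.symm hpr)
  have hord : orderOf (s * t) = r * p := by
    rw [hst.orderOf_mul_eq_mul_orderOf_of_coprime hcop, hs, ht]
  have hB : IsPBlock M (principalBlock M G) := ⟨CharTheory.trivIrr G, rfl⟩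
  have h := finsum_mul_conj_eq_zero_of_isPBlock hM hB (x := (1 : G)) (y := s * t)
    (by rw [orderOf_one]; exact hp.not_dvd_one) (by rw [hord]; exact dvd_mul_left p r)
  rw [finsum_mem_irr_eq_sum, ← Finset.add_sum_erase _ _ (Finset.mem_univ (CharTheory.trivIrr G)),
    if_pos (show CharTheory.trivIrr G ∈ principalBlock M G from mem_blockOf_self (CharTheory.trivIrr G))] at h
  simp only [CharTheory.trivIrr_apply, map_one, mul_one] at h
  have hint : IsIntegral ℤ ((∑ χ ∈ Finset.univ.erase (CharTheory.trivIrr G),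
      if χ ∈ principalBlock M G then (χ : G → ℂ) 1 * conj ((χ : G → ℂ) (s * t)) else 0) / (q : ℂ)) := by
    rw [Finset.sum_div]
    refine IsIntegral.sum _ fun χ hχne => ?_
    split_ifs with hχ
    swap
    · rw [zero_div]; exact isIntegral_zero
    by_cases hr : ¬ r ∣ Nat.card G / charDegree (χ : G → ℂ)
    · rw [irr_eq_zero_of_full χ hr (g := s * t) (by rw [hord]; exact dvd_mul_right r p), map_zero, mul_zero,
        zero_div]
      exact isIntegral_zero
    rw [not_not] at hr
    have hdvd := charDegree_dvd_card χ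
    have hd : charDegree (χ : G → ℂ) ∣ p ^ a * q ^ b := by
      obtain ⟨c, hc⟩ := hr
      refine ⟨c, Nat.eq_of_mul_eq_mul_right (Fact.out : r.Prime).pos ?_⟩
      rw [← hcard, mul_assoc, mul_comm c r, ← hc, Nat.mul_div_cancel' hdvd]
    obtain ⟨u, v, hu, hv, huv⟩ := exists_dvd_and_dvd_of_dvd_mul hd
    obtain ⟨i, -, rfl⟩ := (Nat.dvd_prime_pow hp).mp hu
    obtain ⟨j, -, rfl⟩ := (Nat.dvd_prime_pow hq).mp hv
    rw [← charDegree_cast, huv]
    rcases j with _ | j
    · refine absurd (Subtype.ext ?_) (Finset.mem_erase.mp hχne).1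
      refine (eq_one_of_mem_principalBlock hM hna hχ (k := i) ?_).trans rfl
      rw [← charDegree_cast, huv, pow_zero, mul_one, Nat.cast_pow]
    · have hq0 : (q : ℂ) ≠ 0 := Nat.cast_ne_zero.mpr hq.ne_zero
      rw [pow_succ, ← mul_assoc, Nat.cast_mul _ q, mul_right_comm, mul_div_cancel_right₀ _ hq0,
        ← CharTheory.IsIrrCharacter.inv χ.2]
      exact (isIntegral_algebraMap (x := ((p ^ i * q ^ j : ℕ) : ℤ))).mul
        (CharTheory.IsCharacter.isIntegral (CharTheory.IsIrrCharacter.isCharacter χ.2) _)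
  rw [eq_neg_of_add_eq_zero_right h] at hint
  have h2 : q ∣ 1 := CharTheory.dvd_of_isIntegral_natCast_div hq.ne_zero (by
    have := hint.neg; rw [neg_div, neg_neg] at this; simpa using this)
  exact hq.one_lt.ne' (Nat.dvd_one.1 h2)

/-- The Sylow subgroup for the prime to the first power is self-centralizing. -/
theorem centralizer_sylow_of_card [IsSimpleGroup G] {q r a b : ℕ} (hq : q.Prime) [Fact r.Prime]
    (hpr : p ≠ r) (hqr : q ≠ r) (hcard : Nat.card G = p ^ a * q ^ b * r) (S : Sylow r G) :
    Subgroup.centralizer (S : Set G) = (S : Subgroup G) := by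
  have hr : r.Prime := Fact.out
  have hp : p.Prime := Fact.out
  have hScard : Nat.card (S : Subgroup G) = r := by
    rw [S.card_eq_multiplicity, hcard, Nat.factorization_mul (Nat.mul_ne_zero
      (pow_ne_zero _ hp.ne_zero) (pow_ne_zero _ hq.ne_zero)) hr.ne_zero, Nat.factorization_mul
      (pow_ne_zero _ hp.ne_zero) (pow_ne_zero _ hq.ne_zero)]
    simp [Nat.factorization_pow, hp.factorization, hq.factorization, hr.factorization,
      hpr, hqr]
  by_cases hab : ∀ x y : G, x * y = y * x
  · haveI hn : (S : Subgroup G).Normal := ⟨fun x hx g => by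
      rw [hab g x, mul_inv_cancel_right]; exact hx⟩
    rcases hn.eq_bot_or_eq_top with h | h
    · exact absurd (hScard.symm.trans (Subgroup.card_eq_one.mpr h)) hr.ne_one
    · rw [h, eq_top_iff]
      exact fun x _ => Subgroup.mem_centralizer_iff.mpr fun y _ => hab y x
  push Not at hab
  haveI : IsCyclic (S : Subgroup G) := isCyclic_of_prime_card hScard
  have hle : (S : Subgroup G) ≤ Subgroup.centralizer (S : Set G) := fun x hx =>
    Subgroup.mem_centralizer_iff.mpr fun y hy => congrArg Subtype.val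
      ((IsCyclic.commGroup (α := (S : Subgroup G))).mul_comm ⟨y, hy⟩ ⟨x, hx⟩)
  by_contra hne
  obtain ⟨s, hs⟩ := exists_prime_orderOf_dvd_card' r (G := (S : Subgroup G)) (by rw [hScard])
  obtain ⟨m, hm⟩ : r ∣ Nat.card (Subgroup.centralizer (S : Set G)) :=
    hScard.symm.dvd.trans (Subgroup.card_dvd_of_le hle)
  have hm1 : m ≠ 1 := fun h => hne (Subgroup.eq_of_le_of_card_ge hle (by
    rw [hm, hScard, h, mul_one])).symm
  have hmdvd : m ∣ p ^ a * q ^ b := by
    have := Subgroup.card_subgroup_dvd_card (Subgroup.centralizer (S : Set G))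
    rw [hm, hcard, mul_comm (p ^ a * q ^ b) r] at this
    exact Nat.dvd_of_mul_dvd_mul_left hr.pos this
  obtain ⟨ℓ, hℓ, hℓm⟩ := Nat.exists_prime_and_dvd hm1
  haveI := Fact.mk hℓ
  obtain ⟨t, ht⟩ := exists_prime_orderOf_dvd_card' ℓ (G := Subgroup.centralizer (S : Set G))
    (hm ▸ hℓm.mul_left r)
  have hst : Commute (s : G) (t : G) := Subgroup.mem_centralizer_iff.mp t.2 _ s.2
  rw [← Subgroup.orderOf_coe] at hs ht
  rcases (Nat.Prime.dvd_mul hℓ).mp (hℓm.trans hmdvd) with h | h
  · obtain rfl := (Nat.prime_dvd_prime_iff_eq hℓ hp).mp (hℓ.dvd_of_dvd_pow h)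
    exact false_of_commute_of_card hq hpr hab hcard hs ht hst
  · obtain rfl := (Nat.prime_dvd_prime_iff_eq hℓ hq).mp (hℓ.dvd_of_dvd_pow h)
    exact false_of_commute_of_card (p := ℓ) (q := p) (a := b) (b := a) hp hqr hab
      (by rw [hcard, mul_comm (p ^ a)]) hs ht hst

end CfsgLib.Blocks
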